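import Groth.Agent.RegularSerre.Serre
import Mathlib.RingTheory.Localization.AtPrime.Basic
import Mathlib.RingTheory.LocalRing.ResidueField.Ideal

/-!
# Localisations of regular local rings are regular
-/

set_option autoImplicit false
universe u

open CategoryTheory

namespace Groth.Agent.RegularSerre

open IsLocalRing

theorem isRegularLocalRing_localization {R : Type u} [CommRing R] [IsRegularLocalRing R]
    (p : Ideal R) [p.IsPrime] : IsRegularLocalRing (Localization.AtPrime p) := by
  set Rp := Localization.AtPrime p
  set d := (maximalIdeal R).spanFinrank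
  have hd : ringKrullDim R = (d : WithBot ℕ∞) := IsRegularLocalRing.spanFinrank_maximalIdeal.symm
  have hloc := (ProjDim.pd_locus d (R ⧸ p)).2.1
    (ProjDim.gldim_le_of_regularLocal R d hd (ModuleCat.of R (R ⧸ p))) ⟨p, ‹_›⟩
  let f : (R ⧸ p) →ₗ[R] ResidueField Rp :=
    Submodule.liftQ p (Algebra.linearMap R (ResidueField Rp)) fun y hy => by
      rw [LinearMap.mem_ker, Algebra.linearMap_apply, IsScalarTower.algebraMap_apply R Rp]
      exact (residue_eq_zero_iff _).2
        ((IsLocalization.AtPrime.to_map_mem_maximal_iff Rp p y).2 hy)
  have hunit : ∀ s : p.primeCompl, IsUnit (algebraMap R (Module.End R (ResidueField Rp)) s) := by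
    intro s
    have hu : IsUnit (algebraMap R (ResidueField Rp) s) := by
      rw [IsScalarTower.algebraMap_apply R Rp]
      exact (IsLocalization.map_units Rp s).map (residue Rp)
    obtain ⟨u, hu⟩ := hu
    rw [Module.End.isUnit_iff]
    constructor
    · intro a b hab
      simp only [Module.algebraMap_end_apply, Algebra.smul_def, ← hu] at hab
      exact u.isUnit.mul_left_cancel hab
    · intro b
      exact ⟨↑u⁻¹ * b, by simp [Algebra.smul_def, ← hu]⟩
  let ψ := LocalizedModule.lift p.primeCompl f hunit
  let ψ' : LocalizedModule p.primeCompl (R ⧸ p) →ₗ[Rp] ResidueField Rp :=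
    ψ.extendScalarsOfIsLocalization p.primeCompl Rp
  have hψ : ∀ (q : R) (s : p.primeCompl),
      ψ' (LocalizedModule.mk (Ideal.Quotient.mk p q) s) * algebraMap R (ResidueField Rp) s =
        algebraMap R (ResidueField Rp) q := by
    intro q s
    show ψ _ * _ = _
    rw [mul_comm, ← Algebra.smul_def, ← map_smul, LocalizedModule.smul'_mk,
      show (s : R) • Ideal.Quotient.mk p q = s • Ideal.Quotient.mk p q from rfl,
      LocalizedModule.mk_cancel]
    exact LinearMap.congr_fun (LocalizedModule.lift_comp p.primeCompl f hunit) (Ideal.Quotient.mk p q)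
  have hbij : Function.Bijective ψ' := by
    refine ⟨(injective_iff_map_eq_zero _).2 fun z hz => ?_, fun y => ?_⟩
    · induction z using LocalizedModule.induction_on with
      | _ qm s =>
        obtain ⟨q, rfl⟩ := Ideal.Quotient.mk_surjective qm
        have h := hψ q s
        rw [hz, zero_mul, IsScalarTower.algebraMap_apply R Rp] at h
        have hq : q ∈ p := (IsLocalization.AtPrime.to_map_mem_maximal_iff Rp p q).1
          ((residue_eq_zero_iff _).1 h.symm)
        rw [Ideal.Quotient.eq_zero_iff_mem.2 hq, LocalizedModule.zero_mk]
    · obtain ⟨y, rfl⟩ := residue_surjective y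
      obtain ⟨⟨q, s⟩, hq⟩ := IsLocalization.surj p.primeCompl y
      refine ⟨LocalizedModule.mk (Ideal.Quotient.mk p q) s, ?_⟩
      have hs : algebraMap R (ResidueField Rp) s ≠ 0 := by
        rw [IsScalarTower.algebraMap_apply R Rp]
        exact ((IsLocalization.map_units Rp s).map (residue Rp)).ne_zero
      refine mul_right_cancel₀ hs ((hψ q s).trans ?_)
      rw [IsScalarTower.algebraMap_apply R Rp, IsScalarTower.algebraMap_apply R Rp (ResidueField Rp) s]
      show residue Rp _ = residue Rp y * residue Rp _
      rw [← map_mul, hq]
  let e := LinearEquiv.ofBijective ψ' hbij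
  have hk : HasProjectiveDimensionLT (ModuleCat.of Rp (ResidueField Rp)) (d + 1) := by
    have := hloc
    exact hasProjectiveDimensionLT_of_iso e.toModuleIso (d + 1)
  exact isRegularLocalRing_of_projDim_residueField _ Rp le_rfl d hk

theorem isRegularRing_of_isRegularLocalRing (R : Type u) [CommRing R] [IsRegularLocalRing R] :
    IsRegularRing R where
  isRegularLocalRing_localization p _ := isRegularLocalRing_localization p

end Groth.Agent.RegularSerre
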