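import Groth.Agent.ProjDim.Regular
import Groth.Agent.DepthLib.RegularLocal
import Groth.Agent.S0560
import Mathlib.RingTheory.Ideal.AssociatedPrime.Finiteness
import Mathlib.RingTheory.Localization.Finiteness

/-!
# Serre's criterion: finite projective dimension of the residue field implies regular
-/

set_option autoImplicit false
universe u

open CategoryTheory
open scoped TensorProduct

namespace Groth.Agent.RegularSerre

open IsLocalRing

/-- In depth zero, finite projective dimension means projective. -/
theorem projective_of_projDim {R : Type u} [CommRing R] [IsLocalRing R] [IsNoetherianRing R]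
    {a : R} (ha : a ≠ 0) (ham : ∀ y ∈ maximalIdeal R, a * y = 0) :
    ∀ (n : ℕ) (M : Type u) [AddCommGroup M] [Module R M] [Module.Finite R M],
      HasProjectiveDimensionLT (ModuleCat.of R M) (n + 1) → Module.Projective R M
  | 0, M, _, _, _, h => (ProjDim.projDim_zero_iff M).1 h
  | n + 1, M, _, _, _, h => by
    classical
    obtain ⟨s, g, hg⟩ := Module.Finite.exists_fin' R M
    have hexact := LinearMap.exact_subtype_ker_map g
    have hK := projective_of_projDim ha ham n (LinearMap.ker g)
      ((ProjDim.shift_iff _ g Subtype.val_injective hexact hg n).1 h)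
    have : Module.Free R (LinearMap.ker g) := Module.free_of_flat_of_isLocalRing
    let b := Module.Free.chooseBasis R (LinearMap.ker g)
    have hinj : Function.Injective ((LinearMap.ker g).subtype.lTensor (ResidueField R)) := by
      rw [injective_iff_map_eq_zero]
      intro z hz
      obtain ⟨y, rfl⟩ : ∃ y : LinearMap.ker g, (1 : ResidueField R) ⊗ₜ[R] y = z := by
        clear hz
        induction z using TensorProduct.induction_on with
        | zero => exact ⟨0, by simp⟩
        | tmul c y =>
          obtain ⟨r, rfl⟩ := residue_surjective c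
          refine ⟨r • y, ?_⟩
          rw [TensorProduct.tmul_smul, TensorProduct.smul_tmul', Algebra.smul_def, mul_one]
          rfl
        | add z z' h h' =>
          obtain ⟨y, rfl⟩ := h
          obtain ⟨y', rfl⟩ := h'
          exact ⟨y + y', TensorProduct.tmul_add _ _ _⟩
      rw [LinearMap.lTensor_tmul] at hz
      have hy : ∀ j, (y : Fin s → R) j ∈ maximalIdeal R := fun j => by
        have h2 := congrArg (TensorProduct.rid R (ResidueField R) ∘
          (LinearMap.proj j).lTensor (ResidueField R)) hz
        simp only [Function.comp_apply, LinearMap.lTensor_tmul, map_zero, TensorProduct.rid_tmul] at h2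
        rw [← residue_eq_zero_iff]
        simpa [Algebra.smul_def] using h2
      have hay : a • y = 0 := Subtype.ext (funext fun j => ham _ (hy j))
      have hmem : ∀ j, b.repr y j ∈ maximalIdeal R := fun j => by
        have h2 : a * b.repr y j = 0 := by
          have h3 := DFunLike.congr_fun (congrArg b.repr hay) j
          simpa using h3
        intro hu
        exact ha ((hu.mul_left_eq_zero).1 h2)
      rw [← b.linearCombination_repr y, Finsupp.linearCombination_apply, Finsupp.sum,
        TensorProduct.tmul_sum]
      refine Finset.sum_eq_zero fun j _ => ?_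
      rw [TensorProduct.tmul_smul, TensorProduct.smul_tmul', Algebra.smul_def, mul_one]
      have : algebraMap R (ResidueField R) (b.repr y j) = 0 := (residue_eq_zero_iff _).2 (hmem j)
      rw [this, TensorProduct.zero_tmul]
    obtain ⟨r, hr⟩ := (IsLocalRing.split_injective_iff_lTensor_residueField_injective _).2 hinj
    have t := Function.Exact.split_tfae hexact Subtype.val_injective hg
    have t' : (∃ s, g ∘ₗ s = LinearMap.id) ↔ ∃ r, r ∘ₗ (LinearMap.ker g).subtype = LinearMap.id :=
      t.out 0 1
    obtain ⟨σ, hσ⟩ := t'.2 ⟨r, hr⟩
    exact Module.Projective.of_split σ g hσ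

/-- Cutting by an element regular on `R` and `M`. -/
theorem projDim_quot {R : Type u} [CommRing R] [IsNoetherianRing R] (x : R)
    (hx : x ∈ nonZeroDivisors R) :
    ∀ (n : ℕ) (M : Type u) [AddCommGroup M] [Module R M] [Module.Finite R M],
      IsSMulRegular M x → HasProjectiveDimensionLT (ModuleCat.of R M) (n + 1) →
      HasProjectiveDimensionLT
        (ModuleCat.of (R ⧸ Ideal.span {x}) ((R ⧸ Ideal.span {x}) ⊗[R] M)) (n + 1)
  | 0, M, _, _, _, _, h => by
    have : Module.Projective R M := (ProjDim.projDim_zero_iff M).1 h
    exact (ProjDim.projDim_zero_iff _).2 inferInstance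
  | n + 1, M, _, _, _, hxM, h => by
    obtain ⟨s, g, hg⟩ := Module.Finite.exists_fin' R M
    have hexact := LinearMap.exact_subtype_ker_map g
    have hxF : IsSMulRegular (Fin s → R) x := fun u v huv =>
      funext fun j => (mem_nonZeroDivisors_iff_right.1 hx |> fun h0 => sub_eq_zero.1 (h0 _ (by
        have := congrFun huv j
        simp only [Pi.smul_apply, smul_eq_mul] at this
        linear_combination this)))
    have hxK : IsSMulRegular (LinearMap.ker g) x := fun u v huv =>
      Subtype.ext (hxF (congrArg Subtype.val huv))
    have hKinj : Function.Injective ((LinearMap.ker g).subtype.baseChange (R ⧸ Ideal.span {x})) := by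
      rw [injective_iff_map_eq_zero]
      intro z hz
      obtain ⟨y, rfl⟩ := TensorProduct.mk_surjective R (LinearMap.ker g) (R ⧸ Ideal.span {x})
        Ideal.Quotient.mk_surjective z
      rw [TensorProduct.mk_apply, LinearMap.baseChange_tmul] at hz
      have hy : ∀ j, ∃ f : R, (y : Fin s → R) j = x * f := fun j => by
        have h2 := congrArg (TensorProduct.rid R (R ⧸ Ideal.span {x}) ∘
          (LinearMap.proj j).lTensor (R ⧸ Ideal.span {x})) hz
        simp only [Function.comp_apply, LinearMap.lTensor_tmul, map_zero, TensorProduct.rid_tmul] at h2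
        rw [Algebra.smul_def, mul_one] at h2
        exact Ideal.mem_span_singleton.1 (Ideal.Quotient.eq_zero_iff_mem.1 h2)
      choose f hf using hy
      have hyf : (y : Fin s → R) = x • f := funext fun j => hf j
      have hfK : g f = 0 := hxM (show x • g f = x • (0 : M) by
        rw [← map_smul, ← hyf, smul_zero]; exact y.2)
      have : y = x • (⟨f, hfK⟩ : LinearMap.ker g) := Subtype.ext hyf
      rw [TensorProduct.mk_apply, this, TensorProduct.tmul_smul, TensorProduct.smul_tmul',
        Algebra.smul_def, mul_one]
      rw [show algebraMap R (R ⧸ Ideal.span {x}) x = 0 from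
        Ideal.Quotient.eq_zero_iff_mem.2 (Ideal.mem_span_singleton_self x), TensorProduct.zero_tmul]
    have ih := projDim_quot x hx n (LinearMap.ker g) hxK
      ((ProjDim.shift_iff _ g Subtype.val_injective hexact hg n).1 h)
    exact (ProjDim.shift_iff _ (g.baseChange (R ⧸ Ideal.span {x})) hKinj
      (lTensor_exact _ hexact hg) (LinearMap.lTensor_surjective _ hg) n).2 ih

/-- Serre. -/
theorem isRegularLocalRing_of_projDim_residueField :
    ∀ (d : ℕ) (R : Type u) [CommRing R] [IsLocalRing R] [IsNoetherianRing R],
      (maximalIdeal R).spanFinrank ≤ d →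
      ∀ n, HasProjectiveDimensionLT (ModuleCat.of R (ResidueField R)) (n + 1) →
        IsRegularLocalRing R := by
  intro d
  induction d using Nat.strong_induction_on with
  | _ d ih =>
    intro R _ _ _ hd n hn
    classical
    set m := maximalIdeal R
    by_cases hmin : ∃ a : R, a ≠ 0 ∧ ∀ y ∈ m, a * y = 0
    · obtain ⟨a, ha, ham⟩ := hmin
      have hproj := projective_of_projDim ha ham n (ResidueField R) hn
      have : Module.Flat R (ResidueField R) :=
        @Module.Flat.of_projective R (ResidueField R) _ _ _ hproj
      have : Module.Free R (ResidueField R) := Module.free_of_flat_of_isLocalRing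
      let b := Module.Free.chooseBasis R (ResidueField R)
      have hne : Nonempty (Module.Free.ChooseBasisIndex R (ResidueField R)) := by
        by_contra h
        rw [not_nonempty_iff] at h
        have : Subsingleton (ResidueField R) := b.repr.injective.subsingleton
        exact (maximalIdeal.isMaximal R).ne_top
          ((Ideal.eq_top_iff_one _).2 ((residue_eq_zero_iff (R := R) 1).1 (Subsingleton.elim _ _)))
      have hm : m = ⊥ := by
        rw [eq_bot_iff]
        intro y hy
        obtain ⟨j⟩ := hne
        have h0 : y • b j = 0 := by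
          rw [Algebra.smul_def]
          exact mul_eq_zero_of_left ((residue_eq_zero_iff y).2 hy) _
        have h1 := DFunLike.congr_fun (congrArg b.repr h0) j
        simpa using h1
      refine IsRegularLocalRing.of_spanFinrank_maximalIdeal_le R ?_
      change ((m.spanFinrank : ℕ) : WithBot ℕ∞) ≤ _
      rw [hm, Submodule.spanFinrank_bot]
      exact ringKrullDim_nonneg_of_nontrivial
    push Not at hmin
    have hnsub : ¬ (m : Set R) ⊆
        ⋃ p ∈ insert (m ^ 2) (associatedPrimes R R), (p : Set R) := by
      intro hsub
      obtain ⟨q, hq, hle⟩ := (Ideal.subset_union_prime_finite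
        ((associatedPrimes.finite R R).insert (m ^ 2)) (m ^ 2) (m ^ 2) (f := fun p => p)
        (fun p hp hne _ => IsAssociatedPrime.isPrime
          ((Set.mem_insert_iff.mp hp).resolve_left hne))).mp hsub
      rcases Set.mem_insert_iff.mp hq with rfl | hq
      · have hm : m = ⊥ := Submodule.eq_bot_of_le_smul_of_le_jacobson_bot m m
          (IsNoetherian.noetherian m) (by rw [smul_eq_mul, ← pow_two]; exact hle)
          (IsLocalRing.maximalIdeal_le_jacobson _)
        obtain ⟨y, hy, hy0⟩ := hmin 1 one_ne_zero
        rw [hm, Ideal.mem_bot] at hy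
        exact hy0 (by rw [hy, mul_zero])
      · obtain ⟨hqp, a, ha⟩ := isAssociatedPrime_iff.1 hq
        have ha0 : a ≠ 0 := by
          rintro rfl
          refine hqp.ne_top (ha.trans (eq_top_iff.2 fun r _ => ?_))
          rw [Submodule.mem_colon_singleton, smul_zero]
          exact Submodule.zero_mem _
        obtain ⟨y, hy, hy0⟩ := hmin a ha0
        have := hle hy
        rw [ha, Submodule.mem_colon_singleton, Submodule.mem_bot, smul_eq_mul, mul_comm] at this
        exact hy0 this
    obtain ⟨x, hx, hxn⟩ := Set.not_subset.mp hnsub
    simp only [Set.mem_iUnion, not_exists] at hxn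
    have hx2 : x ∉ m ^ 2 := fun h => hxn _ (Set.mem_insert _ _) h
    have hxreg : IsSMulRegular R x := by
      by_contra hne
      have : x ∈ ⋃ q ∈ associatedPrimes R R, (q : Set R) := by
        rw [biUnion_associatedPrimes_eq_compl_regular]
        exact hne
      obtain ⟨q, hq, hxq⟩ := Set.mem_iUnion₂.1 this
      exact hxn q (Set.mem_insert_of_mem _ hq) hxq
    have hxnzd : x ∈ nonZeroDivisors R := mem_nonZeroDivisors_iff_right.2 fun z hz =>
      hxreg (show x • z = x • 0 by rw [smul_zero, smul_eq_mul, mul_comm, hz])
    let Rb := R ⧸ Ideal.span {x}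
    have hxm : Ideal.span {x} ≤ m := (Ideal.span_singleton_le_iff_mem _).2 hx
    have : Nontrivial Rb := Ideal.Quotient.nontrivial_iff.2
      (ne_top_of_le_ne_top (maximalIdeal.isMaximal R).ne_top hxm)
    have : IsLocalRing Rb := IsLocalRing.of_surjective' (Ideal.Quotient.mk _) Ideal.Quotient.mk_surjective
    have hmax : maximalIdeal Rb = m.map (Ideal.Quotient.mk (Ideal.span {x})) :=
      (IsLocalRing.eq_maximalIdeal (Ideal.IsMaximal.map_of_surjective_of_ker_le
        Ideal.Quotient.mk_surjective (by rw [Ideal.mk_ker]; exact hxm))).symm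
    -- embedding dimension drops
    obtain ⟨s, hscard, hspan⟩ := DepthLib.exists_span_insert_eq_maximalIdeal hx hx2
    have hlt : (maximalIdeal Rb).spanFinrank < d := by
      have h1 : maximalIdeal Rb = Ideal.span (Ideal.Quotient.mk (Ideal.span {x}) '' (s : Set R)) := by
        rw [hmax, show m = Ideal.span (insert x (s : Set R)) from hspan.symm, Ideal.map_span,
          Set.image_insert_eq,
          Ideal.Quotient.eq_zero_iff_mem.mpr (Ideal.mem_span_singleton_self x)]
        exact Submodule.span_insert_zero
      have h2 : (maximalIdeal Rb).spanFinrank ≤ s.card := by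
        rw [h1]
        refine (Submodule.spanFinrank_span_le_ncard_of_finite (s.finite_toSet.image _)).trans ?_
        exact (Set.ncard_image_le s.finite_toSet).trans (le_of_eq (Set.ncard_coe_finset s))
      have h3 : s.card + 1 = m.spanFinrank := hscard
      omega
    -- projective dimension of m
    have hk : ∃ n', HasProjectiveDimensionLT (ModuleCat.of R m) (n' + 1) := by
      have hn2 : HasProjectiveDimensionLT (ModuleCat.of R (ResidueField R)) (n + 2) :=
        hasProjectiveDimensionLT_of_ge _ (n + 1) _ (by omega)
      exact ⟨n, (ProjDim.shift_iff m.subtype (Algebra.linearMap R (ResidueField R))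
        Subtype.val_injective (by
          intro y
          constructor
          · intro hy
            exact ⟨⟨y, (residue_eq_zero_iff y).1 hy⟩, rfl⟩
          · rintro ⟨z, rfl⟩
            exact (residue_eq_zero_iff _).2 z.2) residue_surjective n).1 hn2⟩
    obtain ⟨n', hn'⟩ := hk
    have hxm' : IsSMulRegular m x := fun u v huv => Subtype.ext (hxreg (congrArg Subtype.val huv))
    have hmb := projDim_quot x hxnzd n' m hxm' hn'
    -- the functional on m detecting x
    let xm : m := ⟨x, hx⟩
    have hxc : m.toCotangent xm ≠ 0 := fun h => hx2 (m.toCotangent_eq_zero xm |>.1 h)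
    obtain ⟨ψ, hψ⟩ := Module.Projective.exists_dual_eq_one (K := ResidueField R)
      (V := CotangentSpace R) (show m.toCotangent xm ≠ (0 : CotangentSpace R) from hxc)
    let ψ' : m →ₗ[R] ResidueField R := (ψ.restrictScalars R).comp m.toCotangent
    have hm0 : m ≤ LinearMap.ker (Algebra.linearMap R (ResidueField Rb)) := fun y hy => by
      rw [LinearMap.mem_ker, Algebra.linearMap_apply, IsScalarTower.algebraMap_apply R Rb]
      refine (residue_eq_zero_iff _).2 ?_
      rw [hmax]
      exact Ideal.mem_map_of_mem _ hy
    let π : ResidueField R →ₗ[R] ResidueField Rb := Submodule.liftQ m _ hm0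
    let r : Rb ⊗[R] m →ₗ[Rb] ResidueField Rb := (π.comp ψ').liftBaseChange Rb
    have hkill : maximalIdeal Rb ≤
        LinearMap.ker (LinearMap.toSpanSingleton Rb (Rb ⊗[R] m) (1 ⊗ₜ[R] xm)) := by
      rw [hmax, Ideal.map_le_iff_le_comap]
      intro y hy
      show Ideal.Quotient.mk (Ideal.span {x}) y • ((1 : Rb) ⊗ₜ[R] xm) = 0
      have e : y • xm = x • (⟨y, hy⟩ : m) := Subtype.ext (mul_comm y x)
      rw [TensorProduct.smul_tmul', smul_eq_mul, mul_one,
        show Ideal.Quotient.mk (Ideal.span {x}) y = y • (1 : Rb) from
          (Algebra.algebraMap_eq_smul_one y),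
        TensorProduct.smul_tmul, e, ← TensorProduct.smul_tmul,
        show x • (1 : Rb) = 0 from (Algebra.algebraMap_eq_smul_one x).symm.trans
          (Ideal.Quotient.eq_zero_iff_mem.2 (Ideal.mem_span_singleton_self x)),
        TensorProduct.zero_tmul]
    let i : ResidueField Rb →ₗ[Rb] Rb ⊗[R] m := Submodule.liftQ (maximalIdeal Rb) _ hkill
    have hri : r.comp i = LinearMap.id := by
      refine LinearMap.ext fun c => ?_
      obtain ⟨c, rfl⟩ := residue_surjective c
      show r (c • ((1 : Rb) ⊗ₜ[R] xm)) = _
      rw [map_smul]
      show c • ((1 : Rb) • π (ψ' xm)) = residue Rb c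
      have hp : π (ψ' xm) = 1 := by
        show π (ψ (m.toCotangent xm)) = 1
        rw [hψ]
        show algebraMap R (ResidueField Rb) 1 = 1
        rw [map_one]
      rw [hp, one_smul, Algebra.smul_def, mul_one]
      rfl
    have hretr : Retract (ModuleCat.of Rb (ResidueField Rb)) (ModuleCat.of Rb (Rb ⊗[R] m)) :=
      { i := ModuleCat.ofHom i
        r := ModuleCat.ofHom r
        retract := ModuleCat.hom_ext hri }
    have := hmb
    have hkb := hretr.hasProjectiveDimensionLT (n' + 1)
    have hregb : IsRegularLocalRing Rb := ih _ hlt Rb le_rfl n' hkb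
    exact S0560.result R x hx hxnzd

end Groth.Agent.RegularSerre
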